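import Groth.Agent.L27.TopInv.Sections
import Groth.Agent.S15351
import Mathlib.AlgebraicGeometry.Fiber
import Mathlib.AlgebraicGeometry.Geometrically.Connected

/-!
A separated étale cover of a smooth scheme with connected fibres has a section through a given
point as soon as it has one on every fibre, when its deck translations are transitive.
-/

set_option autoImplicit false
set_option linter.style.haveILetI false
set_option backward.isDefEq.respectTransparency false
set_option backward.isDefEq.respectTransparency.types false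

universe u

open CategoryTheory CategoryTheory.Limits AlgebraicGeometry TopologicalSpace

noncomputable section

namespace Groth.L06.ConstTorsor

variable {S : Scheme.{u}}

/-- Restriction over an open of the base of the components through a section. -/
theorem image_sectionComponents_le {X Y T : Scheme.{u}} (f : X ⟶ S) (e : S ⟶ X) (j : T ⟶ S)
    (g : Y ⟶ T) (ε : T ⟶ Y) (i : Y ⟶ X) (hi : i ≫ f = g ≫ j) (hε : ε ≫ i = j ≫ e)
    [IsOpenImmersion i] (hr : ∀ x, f x ∈ Set.range j → x ∈ Set.range i) (hj : Function.Injective j) :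
    MoreMor.sectionComponents f e ∩ f ⁻¹' Set.range j = i '' MoreMor.sectionComponents g ε := by
  have hfi : ∀ y, f (i y) = j (g y) := fun y => by
    rw [← Scheme.Hom.comp_apply, hi, Scheme.Hom.comp_apply]
  have hei : ∀ t, i (ε t) = e (j t) := fun t => by
    rw [← Scheme.Hom.comp_apply, hε, Scheme.Hom.comp_apply]
  ext x
  constructor
  · rintro ⟨hx, hxr⟩
    obtain ⟨y, rfl⟩ := hr x hxr
    refine ⟨y, ?_, rfl⟩
    have hx' : i y ∈ connectedComponentIn (f ⁻¹' {f (i y)}) (e (f (i y))) := hx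
    set A := connectedComponentIn (f ⁻¹' {f (i y)}) (e (f (i y)))
    have hA : A ⊆ Set.range i := fun z hz =>
      hr z ⟨g y, by
        have h : z ∈ f ⁻¹' {f (i y)} := connectedComponentIn_subset _ _ hz
        rw [Set.mem_preimage, Set.mem_singleton_iff] at h
        rw [h, hfi]⟩
    have hAc : _root_.IsPreconnected (i ⁻¹' A) := by
      rw [← i.isOpenEmbedding.isInducing.isPreconnected_image, Set.image_preimage_eq_inter_range,
        Set.inter_eq_left.2 hA]
      exact isPreconnected_connectedComponentIn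
    show y ∈ connectedComponentIn (g ⁻¹' {g y}) (ε (g y))
    refine hAc.subset_connectedComponentIn ?_ ?_ hx'
    · show i (ε (g y)) ∈ A
      rw [hei, ← hfi]
      exact mem_connectedComponentIn (by
        by_contra h
        rw [show A = ∅ from connectedComponentIn_eq_empty h] at hx'
        exact hx'.elim)
    · intro z hz
      have h : i z ∈ f ⁻¹' {f (i y)} := connectedComponentIn_subset _ _ hz
      rw [Set.mem_preimage, Set.mem_singleton_iff, hfi, hfi] at h
      exact hj h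
  · rintro ⟨y, hy, rfl⟩
    have hy' : y ∈ connectedComponentIn (g ⁻¹' {g y}) (ε (g y)) := hy
    have hεm : ε (g y) ∈ g ⁻¹' {g y} := by
      by_contra h
      rw [connectedComponentIn_eq_empty h] at hy'
      exact hy'.elim
    refine ⟨?_, ⟨g y, (hfi y).symm⟩⟩
    show i y ∈ connectedComponentIn (f ⁻¹' {f (i y)}) (e (f (i y)))
    refine (isPreconnected_connectedComponentIn.image i i.continuous.continuousOn).subset_connectedComponentIn
      ?_ ?_ ⟨y, hy', rfl⟩
    · exact ⟨ε (g y), mem_connectedComponentIn hεm, by rw [hei, hfi]⟩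
    · rintro _ ⟨z, hz, rfl⟩
      show f (i z) = f (i y)
      have h : z ∈ g ⁻¹' {g y} := connectedComponentIn_subset _ _ hz
      rw [Set.mem_preimage, Set.mem_singleton_iff] at h
      rw [hfi, hfi, h]

/-- The components through a section of a smooth quasi-separated morphism form an open set. -/
theorem isOpen_sectionComponents {X : Scheme.{u}} (f : X ⟶ S) [Smooth f] [QuasiSeparated f]
    (e : S ⟶ X) (he : e ≫ f = 𝟙 S) : IsOpen (MoreMor.sectionComponents f e) := by
  refine isOpen_iff_mem_nhds.2 fun x hx => ?_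
  obtain ⟨V, hV, hxV, -⟩ := exists_isAffineOpen_mem_and_subset (X := S) (x := f x) (U := ⊤) trivial
  haveI : IsAffine V.toScheme := hV
  haveI : QuasiSeparatedSpace ↥(f ⁻¹ᵁ V).toScheme :=
    (HasAffineProperty.iff_of_isAffine (P := @QuasiSeparated)).1 (inferInstance : QuasiSeparated (f ∣_ V))
  let ε : V.toScheme ⟶ (f ⁻¹ᵁ V).toScheme := IsOpenImmersion.lift (f ⁻¹ᵁ V).ι (V.ι ≫ e) (by
    rw [Scheme.Opens.range_ι]
    rintro _ ⟨t, rfl⟩
    show f (e (V.ι t)) ∈ V
    rw [← Scheme.Hom.comp_apply e f, he]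
    exact t.2)
  have hε : ε ≫ (f ⁻¹ᵁ V).ι = V.ι ≫ e := IsOpenImmersion.lift_fac _ _ _
  have hεf : ε ≫ (f ∣_ V) = 𝟙 _ := by
    rw [← cancel_mono V.ι, Category.assoc, morphismRestrict_ι, reassoc_of% hε, he, Category.comp_id, Category.id_comp]
  have hopen := Groth.Agent.S15351.result (f ∣_ V) ε hεf
  have heq := image_sectionComponents_le f e V.ι (f ∣_ V) ε (f ⁻¹ᵁ V).ι (morphismRestrict_ι f V).symm hε
    (fun x hx => by rw [Scheme.Opens.range_ι] at hx ⊢; exact hx) V.ι.isOpenEmbedding.injective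
  refine Filter.mem_of_superset (((f ⁻¹ᵁ V).ι.isOpenEmbedding.isOpenMap _ hopen).mem_nhds ?_)
    (heq ▸ Set.inter_subset_left)
  rw [← heq]
  exact ⟨hx, by rw [Set.mem_preimage, Scheme.Opens.range_ι]; exact hxV⟩

variable {P E : Scheme.{u}} (p : P ⟶ S) (q : E ⟶ P)

theorem exists_fibre_section [GeometricallyConnected p] [Etale q] [IsSeparated q] (e : S ⟶ P) (he : e ≫ p = 𝟙 S)
    (e' : S ⟶ E) (he' : e' ≫ q = e)
    (htr : ∀ (K : Type u) [Field K] (g₁ g₂ : Spec (CommRingCat.of K) ⟶ E), g₁ ≫ q = g₂ ≫ q →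
      ∃ t : E ⟶ E, t ≫ q = q ∧ g₂ ≫ t = g₁)
    (hfib : ∀ s : S, ∃ σ : p.fiber s ⟶ E, σ ≫ q = p.fiberι s) (s : S) :
    ∃ σ : p.fiber s ⟶ E, σ ≫ q = p.fiberι s ∧
      Set.range σ = MoreMor.sectionComponents (q ≫ p) e' ∩ (q ≫ p) ⁻¹' {s} := by
  obtain ⟨σ₀, hσ₀⟩ := hfib s
  let a : Spec (CommRingCat.of (S.residueField s)) ⟶ p.fiber s :=
    pullback.lift (S.fromSpecResidueField s ≫ e) (𝟙 _) (by rw [Category.assoc, he, Category.comp_id, Category.id_comp])
  have ha : a ≫ p.fiberι s = S.fromSpecResidueField s ≫ e := pullback.lift_fst _ _ _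
  obtain ⟨t, ht, ht'⟩ := htr (S.residueField s) (S.fromSpecResidueField s ≫ e') (a ≫ σ₀)
    ((Category.assoc _ _ _).trans (((congrArg _ he').trans ha.symm).trans
      ((congrArg (a ≫ ·) hσ₀.symm).trans (Category.assoc _ _ _).symm)))
  let σ := σ₀ ≫ t
  have hσ : σ ≫ q = p.fiberι s := by rw [Category.assoc, ht, hσ₀]
  have hh : ∀ y, (q ≫ p) (σ y) = s := fun y => by
    rw [Scheme.Hom.comp_apply, ← Scheme.Hom.comp_apply σ q, hσ]
    have hm : p.fiberι s y ∈ Set.range (p.fiberι s) := ⟨y, rfl⟩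
    rw [Scheme.Hom.range_fiberι] at hm
    exact hm
  let c : Spec (CommRingCat.of (S.residueField s)) := IsLocalRing.closedPoint (S.residueField s)
  have hpt : σ (a c) = e' s := by
    rw [← Scheme.Hom.comp_apply, show a ≫ σ = (a ≫ σ₀) ≫ t from (Category.assoc _ _ _).symm, ht',
      Scheme.Hom.comp_apply]
    exact congrArg e' (Scheme.fromSpecResidueField_apply s c)
  refine ⟨σ, hσ, subset_antisymm ?_ ?_⟩
  · rintro _ ⟨y, rfl⟩
    refine ⟨?_, hh y⟩
    show σ y ∈ connectedComponentIn ((q ≫ p) ⁻¹' {(q ≫ p) (σ y)}) (e' ((q ≫ p) (σ y)))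
    rw [hh y]
    exact (isConnected_range σ.continuous).isPreconnected.subset_connectedComponentIn ⟨a c, hpt⟩
      (by rintro _ ⟨z, rfl⟩; exact hh z) ⟨y, rfl⟩
  · rintro x ⟨hx, hxs⟩
    have hx' : x ∈ connectedComponentIn ((q ≫ p) ⁻¹' {(q ≫ p) x}) (e' ((q ≫ p) x)) := hx
    rw [show (q ≫ p) x = s from hxs] at hx'
    let τ : p.fiber s ⟶ pullback q (p.fiberι s) := pullback.lift σ (𝟙 _) (hσ.trans (Category.id_comp _).symm)
    have hτ : τ ≫ pullback.snd q (p.fiberι s) = 𝟙 _ := pullback.lift_snd _ _ _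
    let ψ := pullback.fst q (p.fiberι s)
    have hψ : τ ≫ ψ = σ := pullback.lift_fst _ _ _
    haveI : IsPreimmersion ψ := MorphismProperty.pullback_fst (P := @IsPreimmersion) _ _ inferInstance
    haveI := Groth.L27.TopInv.isOpenImmersion_section (pullback.snd q (p.fiberι s)) τ hτ
    haveI : IsClosedImmersion τ := by
      haveI : IsClosedImmersion (τ ≫ pullback.snd q (p.fiberι s)) := by rw [hτ]; infer_instance
      exact IsClosedImmersion.of_comp τ (pullback.snd q (p.fiberι s))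
    have hrange : Set.range ψ = (q ≫ p) ⁻¹' {s} := by
      rw [Scheme.Pullback.range_fst, Scheme.Hom.range_fiberι]
      rfl
    set A := connectedComponentIn ((q ≫ p) ⁻¹' {s}) (e' s)
    have hA : A ⊆ Set.range ψ := (connectedComponentIn_subset _ _).trans hrange.ge
    have hAc : _root_.IsPreconnected (ψ ⁻¹' A) := by
      rw [← ψ.isEmbedding.isInducing.isPreconnected_image, Set.image_preimage_eq_inter_range,
        Set.inter_eq_left.2 hA]
      exact isPreconnected_connectedComponentIn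
    obtain ⟨w, rfl⟩ := hA hx'
    have hmem : e' s ∈ (q ≫ p) ⁻¹' {s} := hpt ▸ hh (a c)
    obtain ⟨z, hz⟩ := hAc.subset_isClopen (t := Set.range τ)
      ⟨τ.isClosedEmbedding.isClosed_range, τ.isOpenEmbedding.isOpen_range⟩
      ⟨τ (a c), by
        show ψ (τ (a c)) ∈ A
        rw [← Scheme.Hom.comp_apply, hψ, hpt]
        exact mem_connectedComponentIn hmem, ⟨a c, rfl⟩⟩ (show w ∈ ψ ⁻¹' A from hx')
    exact ⟨z, by rw [← hψ, Scheme.Hom.comp_apply, hz]⟩

/-- A section through a given point exists and is unique as soon as sections exist on all fibres. -/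
theorem existsUnique_section [Smooth p] [QuasiSeparated p] [GeometricallyConnected p] [Etale q] [IsSeparated q]
    (e : S ⟶ P) (he : e ≫ p = 𝟙 S) (e' : S ⟶ E) (he' : e' ≫ q = e)
    (htr : ∀ (K : Type u) [Field K] (g₁ g₂ : Spec (CommRingCat.of K) ⟶ E), g₁ ≫ q = g₂ ≫ q →
      ∃ t : E ⟶ E, t ≫ q = q ∧ g₂ ≫ t = g₁)
    (hfib : ∀ s : S, ∃ σ : p.fiber s ⟶ E, σ ≫ q = p.fiberι s) :
    ∃! g : P ⟶ E, g ≫ q = 𝟙 P ∧ e ≫ g = e' := by
  haveI : Smooth (q ≫ p) := inferInstance
  haveI : QuasiSeparated (q ≫ p) := inferInstance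
  have heq : e' ≫ q ≫ p = 𝟙 S := by rw [reassoc_of% he', he]
  let Γ : E.Opens := ⟨MoreMor.sectionComponents (q ≫ p) e', isOpen_sectionComponents (q ≫ p) e' heq⟩
  have hsec := exists_fibre_section p q e he e' he' htr hfib
  have key : ∀ (K : Type u) [Field K] (g : Spec (CommRingCat.of K) ⟶ E) (s : S) (σ : p.fiber s ⟶ E),
      σ ≫ q = p.fiberι s → (∀ x, g x ∈ Set.range σ) →
      ∀ b : Spec (CommRingCat.of K) ⟶ p.fiber s, g ≫ q = b ≫ p.fiberι s → g = b ≫ σ := by
    intro K _ g s σ hσ hg b hb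
    let τ : p.fiber s ⟶ pullback q (p.fiberι s) := pullback.lift σ (𝟙 _) (hσ.trans (Category.id_comp _).symm)
    have hτ : τ ≫ pullback.snd q (p.fiberι s) = 𝟙 _ := pullback.lift_snd _ _ _
    have hψ : τ ≫ pullback.fst q (p.fiberι s) = σ := pullback.lift_fst _ _ _
    haveI := Groth.L27.TopInv.isOpenImmersion_section (pullback.snd q (p.fiberι s)) τ hτ
    haveI : IsPreimmersion (pullback.fst q (p.fiberι s)) :=
      MorphismProperty.pullback_fst (P := @IsPreimmersion) _ _ inferInstance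
    let u := pullback.lift g b hb
    have hu : u ≫ pullback.fst q (p.fiberι s) = g := pullback.lift_fst _ _ _
    have hr : Set.range u ⊆ Set.range τ := by
      rintro _ ⟨x, rfl⟩
      obtain ⟨y, hy⟩ := hg x
      refine ⟨y, (pullback.fst q (p.fiberι s)).isEmbedding.injective ?_⟩
      rw [← Scheme.Hom.comp_apply, ← Scheme.Hom.comp_apply, hψ, hu, hy]
    let v := IsOpenImmersion.lift τ u hr
    have hv : v ≫ τ = u := IsOpenImmersion.lift_fac _ _ _
    have hvb : v = b := by
      rw [← Category.comp_id v, ← hτ, ← Category.assoc, hv, pullback.lift_snd]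
    rw [← hu, ← hv, Category.assoc, hψ, hvb]
  haveI : UniversallyInjective (Γ.ι ≫ q) := by
    refine ((tfae_universallyInjective (Γ.ι ≫ q)).out 1 0).1 ?_
    intro K _ g₁ g₂ hg
    simp only at hg
    let x₀ : Spec (CommRingCat.of K) := IsLocalRing.closedPoint K
    have hall : ∀ x : Spec (CommRingCat.of K), x = x₀ := fun x => Subsingleton.elim (α := PrimeSpectrum K) _ _
    let w := g₁ ≫ Γ.ι ≫ q ≫ p
    have hw : w = g₂ ≫ Γ.ι ≫ q ≫ p := by
      simpa [w, Category.assoc] using congrArg (· ≫ p) hg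
    let s := w x₀
    obtain ⟨σ, hσ, hσr⟩ := hsec s
    let r := Spec.map (S.descResidueField (Scheme.stalkClosedPointTo w))
    have hr : r ≫ S.fromSpecResidueField s = w :=
      Scheme.descResidueField_stalkClosedPointTo_fromSpecResidueField K S w
    let b : Spec (CommRingCat.of K) ⟶ p.fiber s := pullback.lift (g₁ ≫ Γ.ι ≫ q) r (by
      rw [hr]; simp [w])
    have hb : (g₁ ≫ Γ.ι) ≫ q = b ≫ p.fiberι s := by
      rw [Category.assoc]
      exact (pullback.lift_fst _ _ _).symm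
    have hmem : ∀ g : Spec (CommRingCat.of K) ⟶ Γ.toScheme, g ≫ Γ.ι ≫ q ≫ p = w → ∀ x, (g ≫ Γ.ι) x ∈ Set.range σ :=
      fun g hgw x => by
        rw [hσr, hall x]
        refine ⟨(g x₀).2, ?_⟩
        show (q ≫ p) ((g ≫ Γ.ι) x₀) = w x₀
        rw [← Scheme.Hom.comp_apply, Category.assoc, hgw]
    have h1 := key K (g₁ ≫ Γ.ι) s σ hσ (hmem g₁ rfl) b hb
    have h2 := key K (g₂ ≫ Γ.ι) s σ hσ (hmem g₂ hw.symm) b (by rw [Category.assoc, ← hg, ← Category.assoc, hb])
    exact (cancel_mono Γ.ι).1 (h1.trans h2.symm)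
  haveI : Surjective (Γ.ι ≫ q) := by
    refine ⟨fun y => ?_⟩
    obtain ⟨σ, hσ, hσr⟩ := hsec (p y)
    obtain ⟨z, hz⟩ : y ∈ Set.range (p.fiberι (p y)) := by rw [Scheme.Hom.range_fiberι]; rfl
    have hσz : σ z ∈ Γ := (hσr.subset ⟨z, rfl⟩).1
    refine ⟨⟨σ z, hσz⟩, ?_⟩
    show q (σ z) = y
    rw [← Scheme.Hom.comp_apply, hσ, hz]
  have := Groth.L27.TopInv.isOpenImmersion_of_etale_univInjective (Γ.ι ≫ q)
  have : IsIso (Γ.ι ≫ q) := (isIso_iff_isOpenImmersion_and_surjective _).2 ⟨inferInstance, inferInstance⟩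
  have hrange : ∀ g : P ⟶ E, g ≫ q = 𝟙 P → e ≫ g = e' → Set.range g ⊆ Set.range Γ.ι := by
    intro g hg hge
    rw [Scheme.Opens.range_ι]
    rintro _ ⟨y, rfl⟩
    have hgp : ∀ z, (q ≫ p) (g z) = p z := fun z => by
      rw [← Scheme.Hom.comp_apply, ← Category.assoc, hg, Category.id_comp]
    show g y ∈ connectedComponentIn ((q ≫ p) ⁻¹' {(q ≫ p) (g y)}) (e' ((q ≫ p) (g y)))
    rw [hgp y]
    refine ((Scheme.Hom.isConnected_preimage_singleton p (p y)).isPreconnected.image g
      g.continuous.continuousOn).subset_connectedComponentIn ?_ ?_ ⟨y, rfl, rfl⟩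
    · refine ⟨e (p y), ?_, ?_⟩
      · show p (e (p y)) = p y
        rw [← Scheme.Hom.comp_apply e p, he]; rfl
      · rw [← Scheme.Hom.comp_apply, hge]
    · rintro _ ⟨z, hz, rfl⟩
      exact (hgp z).trans hz
  let ε' : S ⟶ Γ.toScheme := IsOpenImmersion.lift Γ.ι e' (by
    rw [Scheme.Opens.range_ι]
    rintro _ ⟨t, rfl⟩
    show e' t ∈ connectedComponentIn ((q ≫ p) ⁻¹' {(q ≫ p) (e' t)}) (e' ((q ≫ p) (e' t)))
    have ht : (q ≫ p) (e' t) = t := by rw [← Scheme.Hom.comp_apply, heq]; rfl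
    rw [ht]
    exact mem_connectedComponentIn ht)
  have hε' : ε' ≫ Γ.ι = e' := IsOpenImmersion.lift_fac _ _ _
  have hεe : ε' ≫ (Γ.ι ≫ q) = e := by rw [reassoc_of% hε', he']
  refine ⟨inv (Γ.ι ≫ q) ≫ Γ.ι, ⟨by simp, ?_⟩, ?_⟩
  · rw [← hεe, Category.assoc, IsIso.hom_inv_id_assoc, hε']
  · rintro g ⟨hg, hge⟩
    rw [← IsOpenImmersion.lift_fac Γ.ι g (hrange g hg hge)]
    congr 1
    rw [← cancel_mono (Γ.ι ≫ q), IsIso.inv_hom_id, ← Category.assoc, IsOpenImmersion.lift_fac, hg]

end Groth.L06.ConstTorsor
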