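import Groth.Agent.L15.ConstTorsor.Sheets
import Groth.Agent.L24.MSub.Glue
import Groth.Agent.L09.EtaleSection

/-!
Torsors under constant groups are separated, and their translations are transitive on field points.
-/

set_option autoImplicit false
set_option linter.style.haveILetI false
set_option backward.isDefEq.respectTransparency.types false

universe u

open CategoryTheory CategoryTheory.Limits MonoidalCategory CartesianMonoidalCategory MonObj AlgebraicGeometry

noncomputable section

namespace Groth.L06.ConstTorsor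

open Groth.L15.ConstTorsor (pointG sheetG)

variable {B : Scheme.{u}} {G : Over B} {Z : Type u} (eG : G ≅ TwC.const B Z) (X : Over B)

include eG in
theorem isSeparated_torsor [GrpObj G] (a : AlgGrp.Action G X)
    (ha : NonAbH1.IsTorsorFor Scheme.fppfPrecoverage a) : IsSeparated X.hom := by
  have hG : IsSeparated G.hom := by
    haveI : IsSeparated (TwC.const B Z).hom :=
      Groth.L24.MSub.isSeparated_sigmaDesc (fun _ : Z => 𝟙 B) fun _ => inferInstance
    rw [← Over.w eG.hom]
    haveI : IsIso eG.hom.left := (Over.forget B).map_isIso eG.hom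
    infer_instance
  have h' : NonAbH1.IsTorsorFor Scheme.fpqcPrecoverage a :=
    ⟨ha.1, ha.2.imp fun R hR => ⟨Scheme.fppfPrecoverage_le_fpqcPrecoverage _ hR.1, hR.2⟩⟩
  haveI : MorphismProperty.DescendsAlong @IsSeparated
      (@Surjective ⊓ @Flat ⊓ @QuasiCompact : MorphismProperty Scheme.{u}) := by
    rw [IsSeparated.isSeparated_eq_diagonal_isClosedImmersion]
    infer_instance
  exact Groth.L09.TorsorSch.of_grp @IsSeparated a h' hG

/-- A field point of a constant group has an index. -/
theorem exists_eq_pointG {K : Type u} [Field K] (b : Spec (CommRingCat.of K) ⟶ B) (γ : Over.mk b ⟶ G) :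
    ∃ z : Z, γ = pointG eG (Over.mk b) z := by
  let T : Over B := Over.mk b
  let g : T ⟶ TwC.const B Z := γ ≫ eG.hom
  let x₀ : Spec (CommRingCat.of K) := IsLocalRing.closedPoint K
  obtain ⟨z, y, hy⟩ := (sigmaOpenCover (fun _ : Z => B)).exists_eq (g.left x₀)
  have hrange : Set.range g.left ⊆ Set.range (Sigma.ι (fun _ : Z => B) z) := by
    rintro _ ⟨x, rfl⟩
    exact ⟨y, hy.trans (congrArg g.left (Subsingleton.elim (α := PrimeSpectrum K) x₀ x))⟩
  let l : T.left ⟶ B := IsOpenImmersion.lift (Sigma.ι (fun _ : Z => B) z) g.left hrange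
  have hl : l ≫ Sigma.ι (fun _ : Z => B) z = g.left := IsOpenImmersion.lift_fac _ _ _
  have hlT : l = T.hom := by
    have h := Over.w g
    rw [← hl, Category.assoc] at h
    erw [Sigma.ι_desc] at h
    exact (Category.comp_id l).symm.trans h
  have hg : g = toUnit T ≫ TwC.pt B Z z := Over.OverMorphism.ext (by
    rw [← hl, hlT]
    simp [TwC.pt])
  refine ⟨z, ?_⟩
  show γ = toUnit T ≫ TwC.pt B Z z ≫ eG.inv
  rw [← Category.assoc, ← hg]
  simp [g]

include eG in
/-- Translations are transitive on field points over the same point of the base. -/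
theorem exists_translate [GrpObj G] (a : AlgGrp.Action G X) (ha : NonAbH1.IsPseudoTorsorSch a)
    (K : Type u) [Field K] (g₁ g₂ : Spec (CommRingCat.of K) ⟶ X.left) (h : g₁ ≫ X.hom = g₂ ≫ X.hom) :
    ∃ t : X.left ⟶ X.left, t ≫ X.hom = X.hom ∧ g₂ ≫ t = g₁ := by
  haveI : IsIso (lift a.act (snd G X)) := ha
  let b := g₁ ≫ X.hom
  let a₁ : Over.mk b ⟶ X := Over.homMk g₁
  let a₂ : Over.mk b ⟶ X := Over.homMk g₂ h.symm
  let r := lift a₁ a₂ ≫ inv (lift a.act (snd G X))
  have hr : r ≫ lift a.act (snd G X) = lift a₁ a₂ := by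
    rw [Category.assoc, IsIso.inv_hom_id, Category.comp_id]
  have hr₁ : r ≫ a.act = a₁ := by
    have := congrArg (· ≫ fst X X) hr
    simpa using this
  have hr₂ : r ≫ snd G X = a₂ := by
    have := congrArg (· ≫ snd X X) hr
    simpa using this
  obtain ⟨z, hz⟩ := exists_eq_pointG eG b (r ≫ fst G X)
  refine ⟨(sheetG eG X z ≫ a.act).left, Over.w (sheetG eG X z ≫ a.act), ?_⟩
  have key : a₂ ≫ sheetG eG X z ≫ a.act = a₁ := by
    rw [← hr₁, ← Category.assoc]
    congr 1
    apply CartesianMonoidalCategory.hom_ext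
    · rw [hz]
      simp [sheetG, pointG]
    · rw [hr₂]
      simp [sheetG]
  exact congrArg CommaMorphism.left key

end Groth.L06.ConstTorsor
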